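import Groth.Agent.Picfga.OverRep
import Mathlib.AlgebraicGeometry.Noetherian
import Mathlib.AlgebraicGeometry.Morphisms.OpenImmersion

/-!
# Gluing locally Noetherian `S`-schemes along a relation between their points

`RelData S`: a small family `X i` of locally Noetherian `S`-schemes and an equivalence relation `rel` between
`T`-points of the `X i` (`T` locally Noetherian), trivial on the points of each `X i`, such that the points of `X i`
related to a point of `X j` are those which factor through an open `dom i j`.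

* `RelData.N`, `RelData.j`: the glued scheme and the open immersions `j i : X i ⟶ N`;
* `RelData.j_eq_iff`: `a ≫ j i = b ≫ j k ↔ rel a b`.

Author: helper295 (after helper750, `Sga7/H750/Glue`)
-/

set_option autoImplicit false
universe u

open CategoryTheory CategoryTheory.Limits AlgebraicGeometry

namespace K295.RelGlue

open Groth.Agent.Picfga.OverRep (res Cov)

/-- Schemes with a relation between their points. -/
structure RelData (S : Scheme.{u}) where
  /-- index type -/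
  J : Type u
  /-- charts -/
  X : J → Over S
  ln : ∀ i, IsLocallyNoetherian (X i).left
  /-- the relation -/
  rel : ∀ {i j : J} {T : Over S}, (T ⟶ X i) → (T ⟶ X j) → Prop
  /-- the largest open of `X i` with a map to `X j` -/
  dom : ∀ i _ : J, (X i).left.Opens
  refl : ∀ {i : J} {T : Over S}, IsLocallyNoetherian T.left → ∀ a : T ⟶ X i, rel a a
  symm : ∀ {i j : J} {T : Over S}, IsLocallyNoetherian T.left → ∀ {a : T ⟶ X i} {b : T ⟶ X j}, rel a b → rel b a
  trans : ∀ {i j k : J} {T : Over S}, IsLocallyNoetherian T.left → ∀ {a : T ⟶ X i} {b : T ⟶ X j} {c : T ⟶ X k},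
    rel a b → rel b c → rel a c
  comp : ∀ {i j : J} {T T' : Over S}, IsLocallyNoetherian T.left → IsLocallyNoetherian T'.left →
    ∀ {a : T ⟶ X i} {b : T ⟶ X j} (l : T' ⟶ T), rel a b → rel (l ≫ a) (l ≫ b)
  eq : ∀ {i : J} {T : Over S}, IsLocallyNoetherian T.left → ∀ {a b : T ⟶ X i}, rel a b → a = b
  dom_iff : ∀ {i : J} (j : J) {T : Over S}, IsLocallyNoetherian T.left → ∀ a : T ⟶ X i,
    Set.range a.left ⊆ (dom i j : Set (X i).left) ↔ ∃ b : T ⟶ X j, rel a b

attribute [instance] RelData.ln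

variable {S : Scheme.{u}}

theorem ln_of_open {T T' : Over S} (a : T' ⟶ T) [IsOpenImmersion a.left] (h : IsLocallyNoetherian T.left) :
    IsLocallyNoetherian T'.left := isLocallyNoetherian_of_isOpenImmersion a.left

namespace RelData

variable (D : RelData S)

/-- `P i j`. -/
noncomputable def P (i j : D.J) : Over S :=
  Over.mk ((D.dom i j).ι ≫ (D.X i).hom)

/-- the inclusion -/
noncomputable def p₁ (i j : D.J) : D.P i j ⟶ D.X i := res (D.X i) _

instance (i j : D.J) : IsOpenImmersion (D.p₁ i j).left :=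
  inferInstanceAs (IsOpenImmersion (D.dom i j).ι)

instance (i j : D.J) : IsLocallyNoetherian (D.P i j).left := ln_of_open (D.p₁ i j) (D.ln i)

theorem exists_p₂ (i j : D.J) : ∃ b : D.P i j ⟶ D.X j, D.rel (D.p₁ i j) b := by
  rw [← D.dom_iff j inferInstance]
  rintro _ ⟨x, rfl⟩
  exact x.2

/-- the second projection -/
noncomputable def p₂ (i j : D.J) : D.P i j ⟶ D.X j := (D.exists_p₂ i j).choose

theorem rel_p (i j : D.J) : D.rel (D.p₁ i j) (D.p₂ i j) := (D.exists_p₂ i j).choose_spec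

instance (i j : D.J) : Mono (D.p₁ i j) := by
  have : Mono (D.p₁ i j).left := inferInstance
  constructor
  intro Z g h hgh
  ext
  rw [← cancel_mono (D.p₁ i j).left]
  exact congrArg CommaMorphism.left hgh

theorem exists_liftP {i j : D.J} {T : Over S} (hT : IsLocallyNoetherian T.left) {a : T ⟶ D.X i} {b : T ⟶ D.X j}
    (h : D.rel a b) : ∃ l : T ⟶ D.P i j, l ≫ D.p₁ i j = a ∧ l ≫ D.p₂ i j = b := by
  have hr : Set.range a.left ⊆ (D.dom i j : Set (D.X i).left) := (D.dom_iff j hT a).2 ⟨b, h⟩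
  let l' : T.left ⟶ (D.dom i j).toScheme :=
    IsOpenImmersion.lift (D.dom i j).ι a.left (by simpa using hr)
  have hl' : l' ≫ (D.dom i j).ι = a.left := IsOpenImmersion.lift_fac _ _ _
  let l : T ⟶ D.P i j := Over.homMk l' (by
    simp only [P, Over.mk_hom, reassoc_of% hl']
    simp)
  have hl : l ≫ D.p₁ i j = a := by
    ext
    exact hl'
  refine ⟨l, hl, D.eq hT ?_⟩
  have h1 := D.comp inferInstance hT l (D.rel_p i j)
  rw [hl] at h1
  exact D.trans hT (D.symm hT h1) h

/-- universal property of `P i j`. -/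
noncomputable def liftP {i j : D.J} {T : Over S} (hT : IsLocallyNoetherian T.left) (a : T ⟶ D.X i) (b : T ⟶ D.X j)
    (h : D.rel a b) : T ⟶ D.P i j :=
  (D.exists_liftP hT h).choose

@[reassoc (attr := simp)]
theorem liftP_p₁ {i j : D.J} {T : Over S} (hT : IsLocallyNoetherian T.left) (a : T ⟶ D.X i) (b : T ⟶ D.X j)
    (h : D.rel a b) : D.liftP hT a b h ≫ D.p₁ i j = a :=
  (D.exists_liftP hT h).choose_spec.1

@[reassoc (attr := simp)]
theorem liftP_p₂ {i j : D.J} {T : Over S} (hT : IsLocallyNoetherian T.left) (a : T ⟶ D.X i) (b : T ⟶ D.X j)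
    (h : D.rel a b) : D.liftP hT a b h ≫ D.p₂ i j = b :=
  (D.exists_liftP hT h).choose_spec.2

theorem P_hom_ext {i j : D.J} {T : Over S} (a b : T ⟶ D.P i j)
    (h : a ≫ D.p₁ i j = b ≫ D.p₁ i j) : a = b := (cancel_mono _).1 h

/-- transition -/
noncomputable def tr (i j : D.J) : D.P i j ⟶ D.P j i :=
  D.liftP inferInstance (D.p₂ i j) (D.p₁ i j) (D.symm inferInstance (D.rel_p i j))

@[reassoc (attr := simp)]
theorem tr_p₁ (i j : D.J) : D.tr i j ≫ D.p₁ j i = D.p₂ i j := by simp [tr]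

@[reassoc (attr := simp)]
theorem tr_p₂ (i j : D.J) : D.tr i j ≫ D.p₂ j i = D.p₁ i j := by simp [tr]

/-- triple intersections. -/
noncomputable def P₃ (i j k : D.J) : Over S :=
  Over.mk (pullback.fst (D.p₁ i j).left (D.p₁ i k).left ≫ (D.P i j).hom)

/-- first projection -/
noncomputable def q₁ (i j k : D.J) : D.P₃ i j k ⟶ D.P i j :=
  Over.homMk (pullback.fst (D.p₁ i j).left (D.p₁ i k).left) rfl

/-- second projection -/
noncomputable def q₂ (i j k : D.J) : D.P₃ i j k ⟶ D.P i k :=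
  Over.homMk (pullback.snd (D.p₁ i j).left (D.p₁ i k).left) (by
    have h1 := Over.w (D.p₁ i j)
    have h2 := Over.w (D.p₁ i k)
    change pullback.snd (D.p₁ i j).left (D.p₁ i k).left ≫ (D.P i k).hom =
      pullback.fst (D.p₁ i j).left (D.p₁ i k).left ≫ (D.P i j).hom
    rw [← h2, ← h1, ← pullback.condition_assoc])

instance (i j k : D.J) : IsOpenImmersion (D.q₁ i j k).left :=
  inferInstanceAs (IsOpenImmersion (pullback.fst (D.p₁ i j).left (D.p₁ i k).left))

instance (i j k : D.J) : IsLocallyNoetherian (D.P₃ i j k).left := ln_of_open (D.q₁ i j k) inferInstance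

@[reassoc]
theorem q_condition (i j k : D.J) : D.q₁ i j k ≫ D.p₁ i j = D.q₂ i j k ≫ D.p₁ i k := by
  ext
  exact pullback.condition

theorem P₃_hom_ext {i j k : D.J} {T : Over S} (a b : T ⟶ D.P₃ i j k)
    (h : a ≫ D.q₁ i j k ≫ D.p₁ i j = b ≫ D.q₁ i j k ≫ D.p₁ i j) : a = b := by
  have h1 : a ≫ D.q₁ i j k = b ≫ D.q₁ i j k := D.P_hom_ext _ _ (by simpa using h)
  have h2 : a ≫ D.q₂ i j k = b ≫ D.q₂ i j k := D.P_hom_ext _ _ (by
    simpa [q_condition] using h)
  ext
  apply pullback.hom_ext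
  · exact congr_arg CommaMorphism.left h1
  · exact congr_arg CommaMorphism.left h2

theorem exists_lift₃ {i j k : D.J} {T : Over S} (a : T ⟶ D.P i j) (b : T ⟶ D.P i k)
    (h : a ≫ D.p₁ i j = b ≫ D.p₁ i k) :
    ∃ l : T ⟶ D.P₃ i j k, l ≫ D.q₁ i j k = a ∧ l ≫ D.q₂ i j k = b := by
  have h' : a.left ≫ (D.p₁ i j).left = b.left ≫ (D.p₁ i k).left := by
    simpa using congr_arg CommaMorphism.left h
  refine ⟨Over.homMk (pullback.lift a.left b.left h') ?_, ?_, ?_⟩
  · simp only [P₃, Over.mk_hom, pullback.lift_fst_assoc]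
    exact Over.w a
  · ext; exact pullback.lift_fst _ _ _
  · ext; exact pullback.lift_snd _ _ _

/-- lift to triple intersections -/
noncomputable def lift₃ {i j k : D.J} {T : Over S} (a : T ⟶ D.P i j) (b : T ⟶ D.P i k)
    (h : a ≫ D.p₁ i j = b ≫ D.p₁ i k) : T ⟶ D.P₃ i j k := (D.exists_lift₃ a b h).choose

@[reassoc (attr := simp)]
theorem lift₃_q₁ {i j k : D.J} {T : Over S} (a : T ⟶ D.P i j) (b : T ⟶ D.P i k)
    (h : a ≫ D.p₁ i j = b ≫ D.p₁ i k) : D.lift₃ a b h ≫ D.q₁ i j k = a :=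
  (D.exists_lift₃ a b h).choose_spec.1

@[reassoc (attr := simp)]
theorem lift₃_q₂ {i j k : D.J} {T : Over S} (a : T ⟶ D.P i j) (b : T ⟶ D.P i k)
    (h : a ≫ D.p₁ i j = b ≫ D.p₁ i k) : D.lift₃ a b h ≫ D.q₂ i j k = b :=
  (D.exists_lift₃ a b h).choose_spec.2

theorem rel₃ (i j k : D.J) : D.rel (D.q₁ i j k ≫ D.p₂ i j) (D.q₂ i j k ≫ D.p₂ i k) := by
  have h1 := D.comp inferInstance inferInstance (D.q₁ i j k) (D.rel_p i j)
  have h2 := D.comp inferInstance inferInstance (D.q₂ i j k) (D.rel_p i k)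
  rw [q_condition] at h1
  exact D.trans inferInstance (D.symm inferInstance h1) h2

/-- transition on triple intersections -/
noncomputable def tr₃ (i j k : D.J) : D.P₃ i j k ⟶ D.P₃ j k i :=
  D.lift₃ (D.liftP inferInstance (D.q₁ i j k ≫ D.p₂ i j) (D.q₂ i j k ≫ D.p₂ i k) (D.rel₃ i j k))
    (D.q₁ i j k ≫ D.tr i j) (by simp)

@[reassoc]
theorem tr₃_q₁_p₁ (i j k : D.J) :
    D.tr₃ i j k ≫ D.q₁ j k i ≫ D.p₁ j k = D.q₁ i j k ≫ D.p₂ i j := by
  simp [tr₃]

@[reassoc]
theorem tr₃_q₁_p₂ (i j k : D.J) :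
    D.tr₃ i j k ≫ D.q₁ j k i ≫ D.p₂ j k = D.q₂ i j k ≫ D.p₂ i k := by
  simp [tr₃]

@[reassoc]
theorem tr₃_q₂ (i j k : D.J) :
    D.tr₃ i j k ≫ D.q₂ j k i = D.q₁ i j k ≫ D.tr i j := by
  simp [tr₃]

theorem tr₃_cocycle (i j k : D.J) : D.tr₃ i j k ≫ D.tr₃ j k i ≫ D.tr₃ k i j = 𝟙 _ := by
  apply D.P₃_hom_ext
  simp only [Category.assoc, Category.id_comp]
  rw [tr₃_q₁_p₁, tr₃_q₁_p₂, tr₃_q₂_assoc, tr_p₂]

/-- The gluing datum. -/
noncomputable def glueData : Scheme.GlueData.{u} where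
  J := D.J
  U i := (D.X i).left
  V ij := (D.P ij.1 ij.2).left
  f i j := (D.p₁ i j).left
  f_id i := by
    have h : D.liftP (D.ln i) (𝟙 (D.X i)) (𝟙 (D.X i)) (D.refl (D.ln i) _) ≫ D.p₁ i i = 𝟙 _ := by simp
    have h' : D.p₁ i i ≫ D.liftP (D.ln i) (𝟙 (D.X i)) (𝟙 (D.X i)) (D.refl (D.ln i) _) = 𝟙 _ :=
      D.P_hom_ext _ _ (by simp)
    exact ⟨(D.liftP (D.ln i) (𝟙 (D.X i)) (𝟙 (D.X i)) (D.refl (D.ln i) _)).left,
      congr_arg CommaMorphism.left h', congr_arg CommaMorphism.left h⟩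
  t i j := (D.tr i j).left
  t_id i := by
    have : D.tr i i = 𝟙 _ := by
      apply D.P_hom_ext
      rw [tr_p₁, Category.id_comp]
      exact (D.eq inferInstance (D.rel_p i i)).symm
    rw [this]
    rfl
  t' i j k := (D.tr₃ i j k).left
  t_fac i j k := by
    have := D.tr₃_q₂ i j k
    exact congr_arg CommaMorphism.left this
  cocycle i j k := by
    have := D.tr₃_cocycle i j k
    exact congr_arg CommaMorphism.left this
  f_open i j := inferInstance

/-- the glued scheme -/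
noncomputable def glued : Scheme.{u} := D.glueData.glued

/-- the inclusions of the charts -/
noncomputable def gι (i : D.J) : (D.X i).left ⟶ D.glued := D.glueData.ι i

instance (i : D.J) : IsOpenImmersion (D.gι i) :=
  inferInstanceAs (IsOpenImmersion (D.glueData.ι i))

theorem glue_cond (i j : D.J) : (D.tr i j).left ≫ (D.p₁ j i).left ≫ D.gι j =
    (D.p₁ i j).left ≫ D.gι i := D.glueData.glue_condition i j

theorem exists_lift_gι {i j : D.J} {T : Scheme.{u}} (a : T ⟶ (D.X i).left) (b : T ⟶ (D.X j).left)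
    (h : a ≫ D.gι i = b ≫ D.gι j) :
    ∃ l : T ⟶ (D.P i j).left, l ≫ (D.p₁ i j).left = a ∧ l ≫ (D.p₂ i j).left = b := by
  refine ⟨(D.glueData.vPullbackConeIsLimit i j).lift (PullbackCone.mk a b h),
    (D.glueData.vPullbackConeIsLimit i j).fac (PullbackCone.mk a b h)
      WalkingCospan.left, ?_⟩
  rw [← tr_p₁]
  exact (D.glueData.vPullbackConeIsLimit i j).fac (PullbackCone.mk a b h)
      WalkingCospan.right

theorem toBase_compat (i j : D.J) :
    pullback.fst (D.gι i) (D.gι j) ≫ (D.X i).hom =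
      pullback.snd (D.gι i) (D.gι j) ≫ (D.X j).hom := by
  obtain ⟨l, h1, h2⟩ := D.exists_lift_gι (pullback.fst (D.gι i) (D.gι j))
    (pullback.snd (D.gι i) (D.gι j)) pullback.condition
  rw [← h1, ← h2, Category.assoc, Category.assoc, Over.w, Over.w]

/-- The structure morphism of the glued scheme. -/
noncomputable def toBase : D.glued ⟶ S :=
  D.glueData.openCover.glueMorphisms (fun i => (D.X i).hom) D.toBase_compat

@[reassoc]
theorem ι_toBase (i : D.J) : D.gι i ≫ D.toBase = (D.X i).hom :=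
  D.glueData.openCover.ι_glueMorphisms (fun i => (D.X i).hom) D.toBase_compat i

/-- The glued object. -/
noncomputable def N : Over S := Over.mk D.toBase

/-- The charts of the glued object. -/
noncomputable def j (i : D.J) : D.X i ⟶ D.N :=
  Over.homMk (D.gι i) (D.ι_toBase i)

instance (i : D.J) : IsOpenImmersion (D.j i).left :=
  inferInstanceAs (IsOpenImmersion (D.gι i))

theorem exists_j_eq (x : D.N.left) : ∃ (i : D.J) (y : (D.X i).left), (D.j i).left y = x :=
  D.glueData.ι_jointly_surjective x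

/-- The covering of the glued object by the charts. -/
noncomputable def cov : Cov D.N where
  ι := D.J
  V := D.X
  j := D.j
  isOpen _ := inferInstance
  covers := D.exists_j_eq

instance : IsLocallyNoetherian D.N.left :=
  (isLocallyNoetherian_iff_openCover D.cov.openCover).2 D.ln

theorem j_eq_of_rel {i k : D.J} {T : Over S} (hT : IsLocallyNoetherian T.left) {a : T ⟶ D.X i} {b : T ⟶ D.X k}
    (h : D.rel a b) : a ≫ D.j i = b ≫ D.j k := by
  have h1 := D.liftP_p₁ hT a b h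
  have h2 := D.liftP_p₂ hT a b h
  have h3 : D.tr i k ≫ D.p₁ k i ≫ D.j k = D.p₁ i k ≫ D.j i := by
    ext
    exact D.glue_cond i k
  calc a ≫ D.j i = D.liftP hT a b h ≫ D.p₁ i k ≫ D.j i := by rw [← Category.assoc, h1]
    _ = D.liftP hT a b h ≫ D.p₂ i k ≫ D.j k := by rw [← h3, tr_p₁_assoc]
    _ = b ≫ D.j k := by rw [← Category.assoc, h2]

theorem exists_lift_j {i k : D.J} {T : Over S} (a : T ⟶ D.X i) (b : T ⟶ D.X k)
    (h : a ≫ D.j i = b ≫ D.j k) : ∃ l : T ⟶ D.P i k, l ≫ D.p₁ i k = a ∧ l ≫ D.p₂ i k = b := by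
  obtain ⟨l, hl1, hl2⟩ := D.exists_lift_gι a.left b.left (congrArg CommaMorphism.left h)
  refine ⟨Over.homMk l ?_, ?_, ?_⟩
  · rw [← Over.w a, ← hl1, Category.assoc, Over.w]
  · ext; exact hl1
  · ext; exact hl2

theorem rel_of_j_eq {i k : D.J} {T : Over S} (hT : IsLocallyNoetherian T.left) {a : T ⟶ D.X i} {b : T ⟶ D.X k}
    (h : a ≫ D.j i = b ≫ D.j k) : D.rel a b := by
  obtain ⟨l, rfl, rfl⟩ := D.exists_lift_j a b h
  exact D.comp inferInstance hT l (D.rel_p i k)

theorem j_eq_iff {i k : D.J} {T : Over S} (hT : IsLocallyNoetherian T.left) (a : T ⟶ D.X i) (b : T ⟶ D.X k) :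
    a ≫ D.j i = b ≫ D.j k ↔ D.rel a b := ⟨D.rel_of_j_eq hT, D.j_eq_of_rel hT⟩

end RelData

end K295.RelGlue
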