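import Groth.Agent.AgPol.K117.Nodes
import Groth.Agent.AgPol.K295.RelGlue

/-!
# Gluing fine moduli schemes of open conditions (node GLUE of the A_g cluster)

`main : K117.Ag.Node.Glue`: a moduli problem on locally Noetherian test schemes with sheaf-like laws, covered by open
conditions which have fine moduli schemes, has a fine moduli scheme, glued from those.

Author: helper295
-/

set_option autoImplicit false
universe u

open CategoryTheory Limits AlgebraicGeometry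

namespace K295.GlueNode

open K117.Ag K295.RelGlue
open Groth.Agent.Picfga.OverRep (res Cov pointCover glue_hom hom_ext_local)

section

variable {S : Scheme.{u}} {F : ModFun.Problem.{u + 1} S} (hF : Laws F) {κ : Type u}
  (Q : κ → ∀ T : Over S, F.Fam T → Prop)
  (hQr : ∀ i (T : Over S) (x y : F.Fam T), LN S T → F.ok T x → F.ok T y → F.r T x y → Q i T x → Q i T y)
  (hQp : ∀ i (T T' : Over S) (k : T' ⟶ T) (x : F.Fam T), LN S T → LN S T' → F.ok T x → Q i T x →
    Q i T' (F.pull k x))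
  (hQo : ∀ i (T : Over S) (x : F.Fam T), LN S T → F.ok T x → ∃ U : T.left.Opens, ∀ (T' : Over S) (k : T' ⟶ T),
    LN S T' → (Q i T' (F.pull k x) ↔ Set.range k.left ⊆ U))
  (M : κ → Over S) (ξ : ∀ i, F.Fam (M i)) (hM : ∀ i, LN S (M i))
  (hU : ∀ i, ModFun.IsUnivFamily (LN S) (F.restrict (Q i)) (M i) (ξ i))

include hF hM hU in
theorem okp (i : κ) {T : Over S} (hT : LN S T) (a : T ⟶ M i) : F.ok T (F.pull a (ξ i)) :=
  hF.pull_ok a (ξ i) (hM i) hT (hU i).1.1

include hQp hM hU in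
theorem Qp (i : κ) {T : Over S} (hT : LN S T) (a : T ⟶ M i) : Q i T (F.pull a (ξ i)) :=
  hQp i (M i) T a (ξ i) (hM i) hT (hU i).1.1 (hU i).1.2

/-- `pull (l ≫ a) ~ pull l (pull a)`, for related families. -/
theorem comp_r (hF : Laws F) {T T' N : Over S} {z : F.Fam N} {x : F.Fam T} (hT : LN S T) (hT' : LN S T') (hN : LN S N)
    (hz : F.ok N z) (hx : F.ok T x) (a : T ⟶ N) (l : T' ⟶ T) (h : F.r T (F.pull a z) x) :
    F.r T' (F.pull (l ≫ a) z) (F.pull l x) := by
  have haz := hF.pull_ok a z hN hT hz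
  exact hF.trans T' _ _ _ (hF.pull_ok _ z hN hT' hz) (hF.pull_ok l _ hT hT' haz) (hF.pull_ok l x hT hT' hx)
    (hF.pull_comp a l z hN hT hT' hz) (hF.pull_r l _ _ hT hT' haz hx h)

/-- `pull (l ≫ a) z ~ pull (l ≫ p) x` if `pull a z ~ pull p x`. -/
theorem comp_r' (hF : Laws F) {W T' T N : Over S} {z : F.Fam N} {x : F.Fam T} (hT' : LN S T') (hT : LN S T)
    (hW : LN S W) (hN : LN S N) (hz : F.ok N z) (hx : F.ok T x) (p : T' ⟶ T) (a : T' ⟶ N) (l : W ⟶ T')
    (h : F.r T' (F.pull a z) (F.pull p x)) : F.r W (F.pull (l ≫ a) z) (F.pull (l ≫ p) x) := by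
  have hpx := hF.pull_ok p x hT hT' hx
  have o1 := hF.pull_ok (l ≫ p) x hT hW hx
  have o2 := hF.pull_ok l _ hT' hW hpx
  exact hF.trans W _ _ _ (hF.pull_ok _ z hN hW hz) o2 o1 (comp_r hF hT' hW hN hz hpx a l h)
    (hF.symm W _ _ o1 o2 (hF.pull_comp p l x hT hT' hW hx))

/-- the relation between points of the charts -/
noncomputable def D : RelData S where
  J := κ
  X := M
  ln := hM
  rel {i j T} a b := F.r T (F.pull a (ξ i)) (F.pull b (ξ j))
  dom i j := (hQo j (M i) (ξ i) (hM i) (hU i).1.1).choose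
  refl {i T} hT a := hF.refl T _ (okp hF Q M ξ hM hU i hT a)
  symm {i j T} hT a b h := hF.symm T _ _ (okp hF Q M ξ hM hU i hT a) (okp hF Q M ξ hM hU j hT b) h
  trans {i j k T} hT a b c h h' := hF.trans T _ _ _ (okp hF Q M ξ hM hU i hT a) (okp hF Q M ξ hM hU j hT b)
    (okp hF Q M ξ hM hU k hT c) h h'
  comp {i j T T'} hT hT' a b l h := by
    have ha := okp hF Q M ξ hM hU i hT a
    have hb := okp hF Q M ξ hM hU j hT b
    have h1 : F.r T' (F.pull (l ≫ a) (ξ i)) (F.pull l (F.pull b (ξ j))) :=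
      comp_r hF hT hT' (hM i) (hU i).1.1 hb a l h
    exact hF.trans T' _ _ _ (okp hF Q M ξ hM hU i hT' _) (hF.pull_ok l _ hT hT' hb) (okp hF Q M ξ hM hU j hT' _) h1
      (hF.symm T' _ _ (okp hF Q M ξ hM hU j hT' _) (hF.pull_ok l _ hT hT' hb)
        (hF.pull_comp b l (ξ j) (hM j) hT hT' (hU j).1.1))
  eq {i T} hT a b h := by
    have hb := okp hF Q M ξ hM hU i hT b
    exact ((hU i).2 T (F.pull b (ξ i)) hT ⟨hb, Qp Q hQp M ξ hM hU i hT b⟩).unique h (hF.refl T _ hb)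
  dom_iff {i} j {T} hT a := by
    have ha := okp hF Q M ξ hM hU i hT a
    rw [← (hQo j (M i) (ξ i) (hM i) (hU i).1.1).choose_spec T a hT]
    constructor
    · intro h
      obtain ⟨b, hb, -⟩ := (hU j).2 T (F.pull a (ξ i)) hT ⟨ha, h⟩
      exact ⟨b, hF.symm T _ _ (okp hF Q M ξ hM hU j hT b) ha hb⟩
    · rintro ⟨b, hb⟩
      have hb' := okp hF Q M ξ hM hU j hT b
      exact hQr j T _ _ hT hb' ha (hF.symm T _ _ ha hb' hb) (Qp Q hQp M ξ hM hU j hT b)

end

/-- Lifting a morphism through an open immersion over `S`. -/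
theorem exists_lift {S : Scheme.{u}} {A B T : Over S} (j : A ⟶ B) [IsOpenImmersion j.left] (g : T ⟶ B)
    (h : Set.range g.left ⊆ Set.range j.left) : ∃ l : T ⟶ A, l ≫ j = g := by
  have hfac := IsOpenImmersion.lift_fac j.left g.left h
  refine ⟨Over.homMk (IsOpenImmersion.lift j.left g.left h) ?_, ?_⟩
  · rw [← Over.w j, reassoc_of% hfac, Over.w]
  · ext
    exact hfac

theorem mono_of_left {S : Scheme.{u}} {A B : Over S} (j : A ⟶ B) [Mono j.left] : Mono j := by
  constructor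
  intro Z g h hgh
  ext
  rw [← cancel_mono j.left]
  exact congrArg CommaMorphism.left hgh

theorem main : K117.Ag.Node.Glue.{u} := by
  intro S F hF κ Q hQr hQp hQo hQc M ξ hM hU
  let D := D hF Q hQr hQp hQo M ξ hM hU
  have hN : LN S D.N := inferInstanceAs (IsLocallyNoetherian D.N.left)
  have okξ : ∀ i, F.ok (M i) (ξ i) := fun i => (hU i).1.1
  have hj : ∀ i, IsOpenImmersion (D.j i).left := fun i => inferInstance
  have hjm : ∀ i, Mono (D.j i) := fun i => by
    have := hj i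
    exact mono_of_left _
  let U : κ → D.N.left.Opens := fun i => (D.j i).left.opensRange
  have hLN : ∀ {T : Over S} (_ : LN S T) (V : T.left.Opens), LN S (resO T V) := fun {T} hT V =>
    haveI : IsOpenImmersion (resH T V).left := inferInstanceAs (IsOpenImmersion V.ι)
    ln_of_open (resH T V) hT
  have hrange : ∀ (T : Over S) (V : T.left.Opens), Set.range (resH T V).left = (V : Set T.left) := fun T V =>
    Scheme.Opens.range_ι V
  have he : ∀ i, ∃ e : resO D.N (U i) ⟶ M i, e ≫ D.j i = resH D.N (U i) := fun i =>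
    exists_lift (D.j i) (resH D.N (U i)) (by rw [hrange]; rfl)
  choose e he using he
  have hf : ∀ i, ∃ f : M i ⟶ resO D.N (U i), f ≫ resH D.N (U i) = D.j i := fun i => by
    have : IsOpenImmersion (resH D.N (U i)).left := inferInstanceAs (IsOpenImmersion (U i).ι)
    exact exists_lift (resH D.N (U i)) (D.j i) (by rw [hrange]; rfl)
  choose f hf using hf
  have hfe : ∀ i, f i ≫ e i = 𝟙 (M i) := fun i => by
    refine (hjm i).right_cancellation (f i ≫ e i) (𝟙 (M i)) ?_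
    exact (Category.assoc _ _ _).trans ((congrArg (f i ≫ ·) (he i)).trans ((hf i).trans (Category.id_comp _).symm))
  have oke : ∀ i, F.ok (resO D.N (U i)) (F.pull (e i) (ξ i)) := fun i =>
    hF.pull_ok (e i) (ξ i) (hM i) (hLN hN _) (okξ i)
  have hUtop : (⨆ i, U i) = ⊤ := by
    rw [eq_top_iff]
    intro x _
    obtain ⟨i, y, hy⟩ := D.exists_j_eq x
    exact TopologicalSpace.Opens.mem_iSup.2 ⟨i, ⟨y, hy⟩⟩
  obtain ⟨ζ, okζ, hζ⟩ := hF.glue D.N hN U hUtop (fun i => F.pull (e i) (ξ i)) oke (by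
    intro i k
    have hW : LN S (resO D.N (U i ⊓ U k)) := hLN hN _
    have h1 : resL D.N (inf_le_left : U i ⊓ U k ≤ U i) ≫ resH D.N (U i) = resH D.N (U i ⊓ U k) := by
      ext
      exact Scheme.homOfLE_ι _ (inf_le_left : U i ⊓ U k ≤ U i)
    have h2 : resL D.N (inf_le_right : U i ⊓ U k ≤ U k) ≫ resH D.N (U k) = resH D.N (U i ⊓ U k) := by
      ext
      exact Scheme.homOfLE_ι _ (inf_le_right : U i ⊓ U k ≤ U k)
    have h3 : D.rel (i := i) (j := k) (resL D.N (inf_le_left : U i ⊓ U k ≤ U i) ≫ e i)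
        (resL D.N (inf_le_right : U i ⊓ U k ≤ U k) ≫ e k) := by
      apply D.rel_of_j_eq hW
      rw [Category.assoc, Category.assoc]
      erw [he i, he k]
      rw [h1, h2]
    have a1 := hF.pull_comp (e i) (resL D.N (inf_le_left : U i ⊓ U k ≤ U i)) (ξ i) (hM i) (hLN hN _) hW (okξ i)
    have a2 := hF.pull_comp (e k) (resL D.N (inf_le_right : U i ⊓ U k ≤ U k)) (ξ k) (hM k) (hLN hN _) hW (okξ k)
    have o1 := hF.pull_ok (resL D.N (inf_le_left : U i ⊓ U k ≤ U i) ≫ e i) (ξ i) (hM i) hW (okξ i)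
    have o2 := hF.pull_ok (resL D.N (inf_le_right : U i ⊓ U k ≤ U k) ≫ e k) (ξ k) (hM k) hW (okξ k)
    have o1' := hF.pull_ok (resL D.N (inf_le_left : U i ⊓ U k ≤ U i)) _ (hLN hN _) hW (oke i)
    have o2' := hF.pull_ok (resL D.N (inf_le_right : U i ⊓ U k ≤ U k)) _ (hLN hN _) hW (oke k)
    exact hF.trans _ _ _ _ o1' o1 o2' (hF.symm _ _ _ o1 o1' a1) (hF.trans _ _ _ _ o1 o2 o2' h3 a2))
  have key : ∀ (i : κ) {T : Over S} (_ : LN S T) (a : T ⟶ M i), F.r T (F.pull (a ≫ D.j i) ζ) (F.pull a (ξ i)) := by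
    intro i T hT a
    have h1 := comp_r hF (hLN hN _) hT hN okζ (oke i) (resH D.N (U i)) (a ≫ f i) (hζ i)
    have h2 : (a ≫ f i) ≫ resH D.N (U i) = a ≫ D.j i := by rw [Category.assoc, hf]
    rw [h2] at h1
    have h3 := hF.pull_comp (e i) (a ≫ f i) (ξ i) (hM i) (hLN hN _) hT (okξ i)
    have h4 : (a ≫ f i) ≫ e i = a := by rw [Category.assoc, hfe, Category.comp_id]
    rw [h4] at h3
    exact hF.trans T _ _ _ (hF.pull_ok _ ζ hN hT okζ) (hF.pull_ok _ _ (hLN hN _) hT (oke i))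
      (hF.pull_ok _ _ (hM i) hT (okξ i)) h1 (hF.symm T _ _ (hF.pull_ok _ _ (hM i) hT (okξ i))
        (hF.pull_ok _ _ (hLN hN _) hT (oke i)) h3)
  refine ⟨D.N, ζ, D.j, hN, ⟨okζ, fun T x hT hx => ?_⟩, hj, D.exists_j_eq⟩
  have hloc : ∀ t : T.left, ∃ (i : κ) (V : T.left.Opens) (g : resO T V ⟶ M i), t ∈ V ∧
      F.r _ (F.pull g (ξ i)) (F.pull (resH T V) x) := by
    intro t
    obtain ⟨i, V, ht, hq⟩ := hQc T x hT hx t
    obtain ⟨g, hg, -⟩ := (hU i).2 (resO T V) (F.pull (resH T V) x) (hLN hT V)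
      ⟨hF.pull_ok _ _ hT (hLN hT V) hx, hq⟩
    exact ⟨i, V, g, ht, hg⟩
  choose i V g hV hg using hloc
  obtain ⟨k, hk⟩ := glue_hom T D.N (pointCover T V hV) (fun t => g t ≫ D.j (i t)) (by
    intro s t W a b hab
    have hW : LN S (resO T (V s ⊓ V t)) := hLN hT _
    have h1 : resL T (inf_le_left : V s ⊓ V t ≤ V s) ≫ resH T (V s) = resH T (V s ⊓ V t) := by
      ext
      exact Scheme.homOfLE_ι _ (inf_le_left : V s ⊓ V t ≤ V s)
    have h2 : resL T (inf_le_right : V s ⊓ V t ≤ V t) ≫ resH T (V t) = resH T (V s ⊓ V t) := by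
      ext
      exact Scheme.homOfLE_ι _ (inf_le_right : V s ⊓ V t ≤ V t)
    have h3 : D.rel (i := i s) (j := i t) (resL T (inf_le_left : V s ⊓ V t ≤ V s) ≫ g s)
        (resL T (inf_le_right : V s ⊓ V t ≤ V t) ≫ g t) := by
      have b1 := comp_r' hF (hLN hT _) hT hW (hM _) (okξ _) hx (resH T (V s)) (g s)
        (resL T (inf_le_left : V s ⊓ V t ≤ V s)) (hg s)
      have b2 := comp_r' hF (hLN hT _) hT hW (hM _) (okξ _) hx (resH T (V t)) (g t)
        (resL T (inf_le_right : V s ⊓ V t ≤ V t)) (hg t)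
      rw [h1] at b1
      rw [h2] at b2
      exact hF.trans _ _ _ _ (hF.pull_ok _ _ (hM _) hW (okξ _)) (hF.pull_ok _ _ hT hW hx)
        (hF.pull_ok _ _ (hM _) hW (okξ _)) b1
        (hF.symm _ _ _ (hF.pull_ok _ _ (hM _) hW (okξ _)) (hF.pull_ok _ _ hT hW hx) b2)
    have h4 := D.j_eq_of_rel hW h3
    have hm1 : Mono (resH T (V s)) := by
      have : Mono (resH T (V s)).left := inferInstanceAs (Mono (V s).ι)
      exact mono_of_left _
    have hm2 : Mono (resH T (V t)) := by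
      have : Mono (resH T (V t)).left := inferInstanceAs (Mono (V t).ι)
      exact mono_of_left _
    have hab' : a ≫ resH T (V s) = b ≫ resH T (V t) := hab
    obtain ⟨l, hl⟩ := exists_lift (resH T (V s ⊓ V t)) (a ≫ resH T (V s)) (by
      rw [hrange]
      rintro _ ⟨w, rfl⟩
      constructor
      · have : (a ≫ resH T (V s)).left w = (V s).ι (a.left w) := rfl
        rw [this]
        exact (a.left w).2
      · rw [hab']
        have : (b ≫ resH T (V t)).left w = (V t).ι (b.left w) := rfl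
        rw [this]
        exact (b.left w).2)
    have hl1 : l ≫ resL T (inf_le_left : V s ⊓ V t ≤ V s) = a := by
      rw [← cancel_mono (resH T (V s)), Category.assoc, h1, hl]
      rfl
    have hl2 : l ≫ resL T (inf_le_right : V s ⊓ V t ≤ V t) = b := by
      rw [← cancel_mono (resH T (V t)), Category.assoc, h2, hl, hab']
      rfl
    have h5 := congrArg (l ≫ ·) h4
    simp only [← Category.assoc] at h5
    rw [hl1, hl2] at h5
    rw [← Category.assoc, ← Category.assoc]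
    exact h5)
  have hok : ∀ (k : T ⟶ D.N), F.ok T (F.pull k ζ) := fun k => hF.pull_ok k ζ hN hT okζ
  have hkr : F.r T (F.pull k ζ) x := by
    refine hF.sep T _ _ hT (hok k) hx fun t => ⟨V t, hV t, ?_⟩
    have hW := hLN hT (V t)
    have c1 := hF.pull_comp k (resH T (V t)) ζ hN hT hW okζ
    have c2 : resH T (V t) ≫ k = g t ≫ D.j (i t) := hk t
    have c3 := key (i t) hW (g t)
    rw [← c2] at c3
    have o1 := hF.pull_ok (resH T (V t) ≫ k) ζ hN hW okζ
    have o2 := hF.pull_ok (resH T (V t)) _ hT hW (hok k)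
    have o3 := hF.pull_ok (g t) _ (hM _) hW (okξ (i t))
    have o4 := hF.pull_ok (resH T (V t)) x hT hW hx
    exact hF.trans _ _ _ _ o2 o1 o4 (hF.symm _ _ _ o1 o2 c1) (hF.trans _ _ _ _ o1 o3 o4 c3 (hg t))
  refine ⟨k, hkr, fun k' hk' => ?_⟩
  · refine hom_ext_local T D.N k' k fun t => ?_
    have hpt : ∀ (h : T ⟶ D.N), F.r T (F.pull h ζ) x → ∃ (c : κ), h.left t ∈ U c := fun h _ => by
      obtain ⟨c, y, hy⟩ := D.exists_j_eq (h.left t)
      exact ⟨c, ⟨y, hy⟩⟩
    obtain ⟨c, hc⟩ := hpt k hkr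
    obtain ⟨c', hc'⟩ := hpt k' hk'
    have hlift : ∀ (h : T ⟶ D.N) (c : κ) (V : T.left.Opens) (_ : V ≤ h.left ⁻¹ᵁ (U c)),
        F.r T (F.pull h ζ) x → ∃ a : resO T V ⟶ M c, a ≫ D.j c = resH T V ≫ h ∧
          F.r _ (F.pull a (ξ c)) (F.pull (resH T V) x) := by
      intro h c V hV hr
      obtain ⟨a, ha⟩ := exists_lift (D.j c) (resH T V ≫ h) (by
        rintro _ ⟨w, rfl⟩
        exact hV w.2)
      have hW := hLN hT V
      refine ⟨a, ha, ?_⟩
      have c1 := comp_r hF hT hW hN okζ hx h (resH T V) hr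
      rw [← ha] at c1
      have c2 := key c hW a
      have o1 := hF.pull_ok (a ≫ D.j c) ζ hN hW okζ
      have o2 := hF.pull_ok a _ (hM c) hW (okξ c)
      have o3 := hF.pull_ok (resH T V) x hT hW hx
      exact hF.trans _ _ _ _ o2 o1 o3 (hF.symm _ _ _ o1 o2 c2) c1
    obtain ⟨a, ha, har⟩ := hlift k c (k.left ⁻¹ᵁ (U c) ⊓ k'.left ⁻¹ᵁ (U c')) inf_le_left hkr
    obtain ⟨b, hb, hbr⟩ := hlift k' c' (k.left ⁻¹ᵁ (U c) ⊓ k'.left ⁻¹ᵁ (U c')) inf_le_right hk'
    refine ⟨k.left ⁻¹ᵁ (U c) ⊓ k'.left ⁻¹ᵁ (U c'), ⟨hc, hc'⟩, ?_⟩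
    have hW := hLN hT (k.left ⁻¹ᵁ (U c) ⊓ k'.left ⁻¹ᵁ (U c'))
    have hab : D.rel (i := c) (j := c') a b :=
      hF.trans _ _ _ _ (hF.pull_ok _ _ (hM _) hW (okξ _)) (hF.pull_ok _ _ hT hW hx)
        (hF.pull_ok _ _ (hM _) hW (okξ _)) har
        (hF.symm _ _ _ (hF.pull_ok _ _ (hM _) hW (okξ _)) (hF.pull_ok _ _ hT hW hx) hbr)
    have := D.j_eq_of_rel hW hab
    exact hb.symm.trans (this.symm.trans ha)

end K295.GlueNode
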